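import Groth.Agent.HypEll.Basic
import Groth.Agent.S2345
import Groth.Agent.S9800
import Groth.Agent.CurveCohLib.RegularCurve
import Groth.Agent.CurveFinMap.Degree
import Mathlib.FieldTheory.FinTrdeg
import Mathlib.FieldTheory.Galois.Basic

/-!
The quotient of a curve by an involution.
-/

set_option autoImplicit false
set_option linter.style.haveILetI false
set_option linter.unusedSectionVars false
set_option backward.isDefEq.respectTransparency false
set_option backward.isDefEq.respectTransparency.types false
set_option maxHeartbeats 800000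

universe u

open CategoryTheory CategoryTheory.Limits AlgebraicGeometry TopologicalSpace IsLocalRing

noncomputable section

namespace Groth.Agent.HypEll

open Groth.Agent

attribute [local instance] CurveFF.ffAlg

theorem ffC_eq {k : Type u} [Field k] (X : Scheme.{u}) [X.Over (Spec (CommRingCat.of k))] [IsIntegral X] :
    CurveLuroth.ffC (X ↘ Spec (CommRingCat.of k)) = CommRingCat.ofHom (algebraMap k X.functionField) := by
  refine Spec.map_injective ?_
  rw [CurveLuroth.spec_ffC]
  let g := X ↘ Spec (CommRingCat.of k)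
  have hg : g = X.toSpecΓ ≫ Spec.map g.appTop ≫ Spec.map (Scheme.ΓSpecIso (CommRingCat.of k)).inv := by
    rw [← Scheme.toSpecΓ_naturality_assoc, ← SpecMap_ΓSpecIso_hom, ← Spec.map_comp, Iso.inv_hom_id,
      Spec.map_id, Category.comp_id]
  show X.fromSpecStalk (genericPoint X) ≫ g = _
  rw [hg, Scheme.fromSpecStalk_toSpecΓ_assoc, ← Spec.map_comp, ← Spec.map_comp]
  rfl

theorem essFiniteType_fixed {k K : Type u} [Field k] [Field K] [Algebra k K] [Algebra.EssFiniteType k K]
    (L : IntermediateField k K) [Algebra.IsAlgebraic L K] : Algebra.EssFiniteType k L := by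
  obtain ⟨s, hs⟩ := exists_isTranscendenceBasis k L
  haveI : FinTrdeg k K := inferInstance
  have hlt : Algebra.trdeg k L < Cardinal.aleph0 := by
    have h := trdeg_add_eq k L (A := K)
    rw [trdeg_eq_zero_iff.2 (inferInstance : Algebra.IsAlgebraic L K), add_zero] at h
    rw [h]
    exact trdeg_lt_aleph0 k K
  have hfin : s.Finite := Cardinal.lt_aleph0_iff_set_finite.1 (hs.cardinalMk_eq_trdeg.trans_lt hlt)
  let L₀ : IntermediateField k L := IntermediateField.adjoin k s
  haveI : Algebra.EssFiniteType k L₀ := IntermediateField.essFiniteType_iff.2 (IntermediateField.fg_adjoin_of_finite hfin)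
  haveI : Algebra.IsAlgebraic L₀ L := by
    have alg := hs.isAlgebraic_field
    rwa [Subtype.range_coe] at alg
  haveI : Algebra.IsAlgebraic L₀ K := Algebra.IsAlgebraic.trans L₀ L K
  haveI : Algebra.EssFiniteType L₀ K := Algebra.EssFiniteType.of_comp k L₀ K
  haveI : Module.Finite L₀ K := Algebra.finite_of_essFiniteType_of_isAlgebraic
  haveI : Module.Finite L₀ L :=
    FiniteDimensional.of_injective (IsScalarTower.toAlgHom L₀ L K).toLinearMap (algebraMap L K).injective
  exact Algebra.EssFiniteType.comp k L₀ L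

/-- A non-trivial involution of a smooth proper curve is the deck map of a degree two map. -/
theorem exists_map {k : Type u} [Field k] [IsAlgClosed k] (C : Scheme.{u}) [C.Over (Spec (CommRingCat.of k))]
    [IsIntegral C] [IsProper (C ↘ Spec (CommRingCat.of k))] [Smooth (C ↘ Spec (CommRingCat.of k))]
    (hC : topologicalKrullDim C = 1) (σ : C ⟶ C)
    (hσp : σ ≫ (C ↘ Spec (CommRingCat.of k)) = C ↘ Spec (CommRingCat.of k))
    (hσσ : σ ≫ σ = 𝟙 C) (hσ : σ ≠ 𝟙 C) :
    ∃ (Y : Scheme.{u}) (_ : Y.Over (Spec (CommRingCat.of k))) (_ : IsIntegral Y)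
      (_ : IsProper (Y ↘ Spec (CommRingCat.of k))) (_ : Smooth (Y ↘ Spec (CommRingCat.of k)))
      (f : C ⟶ Y), topologicalKrullDim Y = 1 ∧ IsFinite f ∧
        f ≫ (Y ↘ Spec (CommRingCat.of k)) = C ↘ Spec (CommRingCat.of k) ∧
        f (genericPoint C) = genericPoint Y ∧ σ ≫ f = f ∧ f.residueDegree (genericPoint C) = 2 := by
  classical
  haveI : IsIso σ := ⟨σ, hσσ, hσσ⟩
  haveI : C.IsSeparated := ⟨by rw [← terminal.comp_from (C ↘ Spec (CommRingCat.of k))]; infer_instance⟩
  have hη : σ (genericPoint C) = genericPoint C := genericPoint_eq_of_isOpenImmersion σ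
  let φ : C.functionField ⟶ C.functionField := endo σ hη
  have hspec : Spec.map φ ≫ C.fromSpecStalk (genericPoint C) = C.fromSpecStalk (genericPoint C) ≫ σ :=
    spec_endo σ hη
  have hφφ : φ ≫ φ = 𝟙 _ := by
    refine Spec.map_injective ?_
    rw [← cancel_mono (C.fromSpecStalk (genericPoint C)), Spec.map_comp, Category.assoc, hspec,
      ← Category.assoc, hspec, Category.assoc, hσσ, Spec.map_id, Category.id_comp, Category.comp_id]
  have hφk : CurveLuroth.ffC (C ↘ Spec (CommRingCat.of k)) ≫ φ = CurveLuroth.ffC (C ↘ Spec (CommRingCat.of k)) := by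
    refine Spec.map_injective ?_
    rw [Spec.map_comp, CurveLuroth.spec_ffC, ← Category.assoc, hspec, Category.assoc, hσp]
  let K := C.functionField
  have hcomm : ∀ c : k, φ.hom (algebraMap k K c) = algebraMap k K c := fun c => by
    have h := ConcreteCategory.congr_hom hφk c
    rw [ffC_eq] at h
    exact h
  let sA : (K : Type u) →ₐ[k] K := { φ.hom with commutes' := hcomm }
  have hss : sA.comp sA = AlgHom.id k K := AlgHom.ext fun a => ConcreteCategory.congr_hom hφφ a
  let s : (K : Type u) ≃ₐ[k] K := AlgEquiv.ofAlgHom sA sA hss hss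
  have hs2 : s ^ 2 = 1 := AlgEquiv.ext fun a => by
    rw [pow_two]
    exact ConcreteCategory.congr_hom hφφ a
  have hs1 : s ≠ 1 := fun h => hσ <| eq_id_of_endo σ hη <| by
    ext a
    exact DFunLike.congr_fun h a
  have hord : orderOf s = 2 := by
    haveI : Fact (Nat.Prime 2) := ⟨Nat.prime_two⟩
    exact orderOf_eq_prime hs2 hs1
  let G := Subgroup.zpowers s
  have hcardG : Nat.card G = 2 := (Nat.card_zpowers s).trans hord
  haveI : Finite G := Nat.finite_of_card_ne_zero (by omega)
  letI : Fintype G := Fintype.ofFinite G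
  let L : IntermediateField k K := IntermediateField.fixedField G
  have hrank : Module.finrank L K = 2 := by
    rw [← hcardG, Nat.card_eq_fintype_card]
    exact FixedPoints.finrank_eq_card G K
  haveI : Module.Finite L K := Module.finite_of_finrank_pos (by omega)
  haveI : Algebra.IsAlgebraic L K := Algebra.IsAlgebraic.of_finite L K
  haveI : Algebra.EssFiniteType k K := CurveFF.essFiniteType k C hC
  haveI := essFiniteType_fixed L
  have htr : Algebra.trdeg k L = 1 := by
    have h := trdeg_add_eq k L (A := K)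
    rwa [trdeg_eq_zero_iff.2 (inferInstance : Algebra.IsAlgebraic L K), add_zero, CurveFF.trdeg_eq_one k C hC] at h
  obtain ⟨Y, oY, hYi, hYp, hYn, hYd, eY, heY⟩ := S2345.result k L (IntermediateField.fg_top k L) htr
  haveI := CurveCohLib.isNoetherian_of_proper (k := k) (X := Y)
  haveI : JacobsonSpace Y := LocallyOfFiniteType.jacobsonSpace (Y ↘ Spec (CommRingCat.of k))
  have hdY : topologicalKrullDim Y = 1 := by
    obtain ⟨y, -, hy⟩ := nonempty_inter_closedPoints (Z := (Set.univ : Set Y)) ⟨genericPoint Y, trivial⟩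
      isOpen_univ.isLocallyClosed
    rw [← SmoothReg.ringKrullDim_stalk_closedPoint (Y ↘ Spec (CommRingCat.of k)) hy]
    exact hYd y hy
  have hregY : ∀ y : Y, IsRegularLocalRing (Y.presheaf.stalk y) := fun y => S9800.result Y hYn hdY.le y
  haveI : Smooth (Y ↘ Spec (CommRingCat.of k)) :=
    CurveCohLib.RegularCurve.smooth_of_regular k fun y _ => hregY y
  let ψ : Y.functionField ⟶ C.functionField := CommRingCat.ofHom (L.val.toRingHom.comp eY.toRingHom)
  have hψk : CurveLuroth.ffC (Y ↘ Spec (CommRingCat.of k)) ≫ ψ = CurveLuroth.ffC (C ↘ Spec (CommRingCat.of k)) := by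
    rw [ffC_eq, ffC_eq]
    ext c
    show L.val (eY (algebraMap k Y.functionField c)) = algebraMap k K c
    exact (congrArg L.val (heY c)).trans (L.val.commutes c)
  have hψφ : ψ ≫ φ = ψ := by
    ext a
    exact (IntermediateField.mem_fixedField_iff _ _).1 (eY a).2 s (Subgroup.mem_zpowers s)
  haveI : Smooth (C ↘ Spec (CommRingCat.of k)) := ‹_›
  have hvC : ∀ y : C, ValuationRing (C.presheaf.stalk y) := CurveGenusMono.valuationRing_of_regular k C hC
    fun z => GrpSchLib.isRegularLocalRing_stalk_of_smooth (C ↘ Spec (CommRingCat.of k)) z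
  obtain ⟨f, e, hf, hfψ⟩ := CurveGenusMono.exists_morphism_of_functionField
    (Y ↘ Spec (CommRingCat.of k)) (C ↘ Spec (CommRingCat.of k)) hvC ψ hψk
  haveI : IsFinite f := CurveFinMap.isFinite_of_generic (k := k) hC hdY f hf e
  refine ⟨Y, oY, hYi, hYp, inferInstance, f, hdY, inferInstance, hf, e, ?_, ?_⟩
  · haveI : Y.IsSeparated := ⟨by rw [← terminal.comp_from (Y ↘ Spec (CommRingCat.of k))]; infer_instance⟩
    haveI : IsDominant (C.fromSpecStalk (genericPoint C)) := by
      refine ⟨fun z => (genericPoint_specializes z).mem_closed isClosed_closure (subset_closure ?_)⟩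
      rw [Scheme.range_fromSpecStalk]
      exact specializes_rfl
    refine ext_of_isDominant (C.fromSpecStalk (genericPoint C)) ?_
    have hg : C.fromSpecStalk (genericPoint C) ≫ f = Spec.map ψ ≫ Y.fromSpecStalk (genericPoint Y) := by
      rw [← hfψ, Spec.map_comp, Category.assoc, Scheme.SpecMap_stalkSpecializes_fromSpecStalk,
        Scheme.SpecMap_stalkMap_fromSpecStalk]
    rw [← Category.assoc, ← hspec, Category.assoc, hg, ← Category.assoc, ← Spec.map_comp, hψφ]
  · rw [← finrank_functionField C Y f e]
    letI := ((Y.presheaf.stalkSpecializes (specializes_of_eq e) ≫ f.stalkMap (genericPoint C)).hom).toAlgebra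
    rw [← hrank]
    refine Algebra.finrank_eq_of_equiv_equiv eY (RingEquiv.refl C.functionField) (RingHom.ext fun z => ?_)
    exact (ConcreteCategory.congr_hom hfψ z).symm

end Groth.Agent.HypEll
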