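import Groth.Agent.CurveRamAC.Global
import Groth.Agent.AlgSpDec.SmoothLocDim
import Groth.Agent.CurveModel.Basic
import Groth.Agent.CurveGenusMono.Basic
import Groth.Agent.UnramMisc.QFSmooth
import Groth.Agent.QCoh.DevissageP
import Mathlib.RingTheory.Filtration

/-!
Degree two maps of smooth curves: fixed points of the deck involution are the ramification points.
-/

set_option autoImplicit false
set_option linter.style.haveILetI false
set_option linter.unusedSectionVars false
set_option backward.isDefEq.respectTransparency false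
set_option backward.isDefEq.respectTransparency.types false
set_option maxHeartbeats 800000

universe u

open CategoryTheory CategoryTheory.Limits AlgebraicGeometry TopologicalSpace IsLocalRing

noncomputable section

namespace Groth.Agent.HypEll

open Groth.Agent

attribute [local instance] Curv2.stalkAlgebra

theorem fibreDimAt_eq_one {k : Type u} [Field k] {C : Scheme.{u}} (p : C ⟶ Spec (CommRingCat.of k)) [Smooth p]
    [IsIntegral C] (hC : topologicalKrullDim C = 1) (x : C) : FlatMor.fibreDimAt p x = 1 := by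
  haveI : IsLocallyNoetherian C := LocallyOfFiniteType.isLocallyNoetherian p
  have hsub : Subsingleton ↥(Spec (CommRingCat.of k)) := inferInstanceAs (Subsingleton (PrimeSpectrum k))
  have hY : FlatMor.localDim ↥(Spec (CommRingCat.of k)) (p x) = 0 := by
    refine le_antisymm (iInf_le_of_le ⟨⊤, trivial⟩ ?_) (le_iInf fun U => ?_)
    · exact HilbCurve.topologicalKrullDim_nonpos _
    · haveI : Nonempty (U.1 : Set ↥(Spec (CommRingCat.of k))) := ⟨⟨p x, U.2⟩⟩
      haveI : Nonempty (IrreducibleCloseds (U.1 : Set ↥(Spec (CommRingCat.of k)))) :=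
        ⟨⟨closure {Classical.arbitrary _}, isIrreducible_singleton.closure, isClosed_closure⟩⟩
      exact Order.krullDim_nonneg
  have hX : FlatMor.localDim ↥C x = 1 := by
    refine le_antisymm (iInf_le_of_le ⟨⊤, trivial⟩ ?_) (le_iInf fun U => ?_)
    · exact (Topology.IsInducing.subtypeVal.topologicalKrullDim_le).trans hC.le
    · obtain ⟨U, hxU⟩ := U
      let U' : C.Opens := U
      haveI : Nonempty U' := ⟨⟨x, hxU⟩⟩
      haveI : IsIntegral (U' : Scheme.{u}) := isIntegral_of_isOpenImmersion U'.ι
      haveI : IsDominant U'.ι :=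
        ⟨(U'.isOpen.dense ⟨x, hxU⟩).mono (by rw [Scheme.Opens.range_ι])⟩
      have h := CurveModel.topologicalKrullDim_eq p U'.ι
      rw [hC] at h
      exact h.le
  have h := AlgSpDec.SmoothLocDim.localDim_eq_add p x
  rw [hX, hY, zero_add] at h
  exact h.symm

theorem smooth_one {k : Type u} [Field k] {C : Scheme.{u}} (p : C ⟶ Spec (CommRingCat.of k)) [Smooth p]
    [IsIntegral C] (hC : topologicalKrullDim C = 1) : SmoothOfRelativeDimension 1 p := by
  choose V j v n hj hv hn using fun x : C => AlgSpDec.SmoothLocDim.exists_smoothOfRelativeDimension_nhd p x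
  haveI := hj
  have hone : ∀ x, n x = 1 := fun x => by
    haveI := hn x
    have h1 := S2768.result (n x) (j x ≫ p) (v x)
    rw [AlgSpDec.fibreDimAt_etale_comp (j x) p (v x), fibreDimAt_eq_one p hC] at h1
    exact_mod_cast h1.symm
  refine (IsZariskiLocalAtSource.iff_of_iSup_eq_top (P := @SmoothOfRelativeDimension 1)
    (fun x => (j x).opensRange) (top_le_iff.1 fun x _ => Opens.mem_iSup.2 ⟨x, v x, hv x⟩)).2 fun x => ?_
  rw [← Scheme.Hom.isoOpensRange_inv_comp (j x), Category.assoc]
  haveI : SmoothOfRelativeDimension 1 (j x ≫ p) := hone x ▸ hn x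
  exact smoothOfRelativeDimension_comp (n := 0) (m := 1) _ _

theorem finite_closed_false {C : Scheme.{u}} [IsIntegral C] [JacobsonSpace C]
    (hC : topologicalKrullDim C = 1) (h : {x : C | IsClosed ({x} : Set C)}.Finite) : False := by
  have hcl : IsClosed {x : C | IsClosed ({x} : Set C)} := by
    rw [← Set.biUnion_of_singleton {x : C | IsClosed ({x} : Set C)}]
    exact h.isClosed_biUnion fun x hx => hx
  have hall : {x : C | IsClosed ({x} : Set C)} = Set.univ := by
    rw [← hcl.closure_eq]
    exact closure_closedPoints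
  exact CurveRamAC.not_isClosed_generic C hC (show genericPoint C ∈ {x : C | IsClosed ({x} : Set C)} from
    hall ▸ trivial)

section Endo

variable {X Y : Scheme.{u}} (σ : X ⟶ X) {x : X} (hx : σ x = x)

/-- The action on the stalk at a fixed point. -/
def endo : X.presheaf.stalk x ⟶ X.presheaf.stalk x :=
  X.presheaf.stalkSpecializes (specializes_of_eq hx) ≫ σ.stalkMap x

theorem spec_endo : Spec.map (endo σ hx) ≫ X.fromSpecStalk x = X.fromSpecStalk x ≫ σ := by
  rw [endo, Spec.map_comp, Category.assoc, Scheme.SpecMap_stalkSpecializes_fromSpecStalk,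
    Scheme.SpecMap_stalkMap_fromSpecStalk]

theorem endo_comp_stalkMap (f : X ⟶ Y) (hσ : σ ≫ f = f) : f.stalkMap x ≫ endo σ hx = f.stalkMap x := by
  refine Spec.map_injective ?_
  rw [← cancel_mono (Y.fromSpecStalk (f x)), Spec.map_comp, Category.assoc,
    Scheme.SpecMap_stalkMap_fromSpecStalk, ← Category.assoc, spec_endo, Category.assoc, hσ]

theorem eq_id_of_endo [IsIntegral X] [X.IsSeparated] (h : endo σ hx = 𝟙 _) : σ = 𝟙 X := by
  haveI : IsDominant (X.fromSpecStalk x) := by
    refine ⟨fun z => ?_⟩
    have hg : genericPoint X ∈ Set.range (X.fromSpecStalk x) := by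
      rw [Scheme.range_fromSpecStalk]
      exact genericPoint_specializes x
    exact (genericPoint_specializes z).mem_closed isClosed_closure (subset_closure hg)
  refine ext_of_isDominant (X.fromSpecStalk x) ?_
  rw [← spec_endo σ hx, h, Spec.map_id, Category.id_comp, Category.comp_id]

end Endo

variable {k : Type u} [Field k] [IsAlgClosed k] (X : Scheme.{u}) [X.Over (Spec (CommRingCat.of k))]
  [IsIntegral X] [IsProper (X ↘ Spec (CommRingCat.of k))] (hdX : topologicalKrullDim X = 1)
  [SmoothOfRelativeDimension 1 (X ↘ Spec (CommRingCat.of k))]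
  (Y : Scheme.{u}) [Y.Over (Spec (CommRingCat.of k))]
  [IsIntegral Y] [IsProper (Y ↘ Spec (CommRingCat.of k))] (hdY : topologicalKrullDim Y = 1)
  [SmoothOfRelativeDimension 1 (Y ↘ Spec (CommRingCat.of k))]
  (f : X ⟶ Y) [IsFinite f] (hf : f ≫ (Y ↘ Spec (CommRingCat.of k)) = X ↘ Spec (CommRingCat.of k))
  (e : f (genericPoint X) = genericPoint Y)

include hdX hdY hf e

theorem one_le_ram {x : X} (hx : IsClosed ({x} : Set X)) : 1 ≤ CurveRamAC.ram f x := by
  haveI : Flat f := CurveRamAC.flat X hdX Y hdY f hf e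
  haveI : Smooth (X ↘ Spec (CommRingCat.of k)) := SmoothOfRelativeDimension.smooth 1 _
  haveI : Smooth (Y ↘ Spec (CommRingCat.of k)) := SmoothOfRelativeDimension.smooth 1 _
  haveI := CurveFF.isDVR k X hdX hx
  haveI := CurveFF.isDVR k Y hdY (CurveRamAC.isClosed_image X Y hdY f e hx)
  by_contra h
  have h0 : CurveRamAC.ram f x = 0 := by omega
  have := CurveRamAC.map_maximalIdeal_eq f (x := x)
  rw [h0, pow_zero, Ideal.one_eq_top] at this
  exact (maximalIdeal.isMaximal (X.presheaf.stalk x)).ne_top (top_le_iff.1 (this ▸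
    (((local_hom_TFAE (f.stalkMap x).hom).out 0 2 rfl rfl).1 (inferInstanceAs (IsLocalHom (f.stalkMap x).hom)))))

theorem finrank_eq (y : Y) :
    haveI : Flat f := CurveRamAC.flat X hdX Y hdY f hf e
    f.finrank y = f.residueDegree (genericPoint X) := by
  haveI : Flat f := CurveRamAC.flat X hdX Y hdY f hf e
  haveI := CurveCohLib.isNoetherian_of_proper (k := k) (X := Y)
  haveI : JacobsonSpace Y := LocallyOfFiniteType.jacobsonSpace (Y ↘ Spec (CommRingCat.of k))
  obtain ⟨y₀, -, hy₀⟩ := nonempty_inter_closedPoints (Z := (Set.univ : Set Y)) ⟨y, trivial⟩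
    isOpen_univ.isLocallyClosed
  obtain ⟨h1, h2⟩ := H23.FiniteFibreSum.sum_finrank f y₀
  have hnc : ∀ x : X, f x = y₀ → IsClosed ({x} : Set X) := fun x hx => by
    haveI := CurveCohLib.isNoetherian_of_proper (k := k) (X := X)
    by_contra hc
    obtain rfl := CurveCohLib.eq_genericPoint_of_not_isClosed hdX hc
    rw [e] at hx
    subst hx
    exact CurveRamAC.not_isClosed_generic Y hdY hy₀
  rw [(Scheme.Hom.isLocallyConstant_finrank f).apply_eq_of_preconnectedSpace y y₀, ← h2,
    ← (CurveRamAC.sum_ram X hdX Y hdY f hf e hy₀).2]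
  refine finsum_mem_congr rfl fun x hx => ?_
  rw [CurveRamAC.residueDegree_eq_one f hf (hnc x hx), one_mul]
  rfl

theorem ram_add_le {x x' : X} (hne : x ≠ x') (hfx : f x = f x') (hx : IsClosed ({x} : Set X)) :
    CurveRamAC.ram f x + CurveRamAC.ram f x' ≤ f.residueDegree (genericPoint X) := by
  classical
  obtain ⟨h1, h2⟩ := CurveRamAC.sum_ram X hdX Y hdY f hf e (CurveRamAC.isClosed_image X Y hdY f e hx)
  rw [finsum_mem_eq_finite_toFinset_sum _ h1] at h2
  rw [← h2, ← Finset.sum_pair hne]
  exact Finset.sum_le_sum_of_subset fun z hz => by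
    rcases Finset.mem_insert.1 hz with rfl | hz
    · simp
    · rw [Finset.mem_singleton.1 hz]; simp [hfx]

theorem ram_le {x : X} (hx : IsClosed ({x} : Set X)) :
    CurveRamAC.ram f x ≤ f.residueDegree (genericPoint X) := by
  classical
  obtain ⟨h1, h2⟩ := CurveRamAC.sum_ram X hdX Y hdY f hf e (CurveRamAC.isClosed_image X Y hdY f e hx)
  rw [finsum_mem_eq_finite_toFinset_sum _ h1] at h2
  rw [← h2]
  exact Finset.single_le_sum (fun z _ => Nat.zero_le _) (by simp)

section Invol

variable (σ : X ⟶ X) (hσp : σ ≫ (X ↘ Spec (CommRingCat.of k)) = X ↘ Spec (CommRingCat.of k)) (hσf : σ ≫ f = f)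

include hσf in
/-- An automorphism over `Y` fixing an unramified point is trivial. -/
theorem eq_id_of_fixed {x : X} (hx : IsClosed ({x} : Set X)) (hfix : σ x = x)
    (hram : CurveRamAC.ram f x = 1) : σ = 𝟙 X := by
  haveI : Flat f := CurveRamAC.flat X hdX Y hdY f hf e
  haveI : Smooth (X ↘ Spec (CommRingCat.of k)) := SmoothOfRelativeDimension.smooth 1 _
  haveI : Smooth (Y ↘ Spec (CommRingCat.of k)) := SmoothOfRelativeDimension.smooth 1 _
  haveI := CurveFF.isDVR k X hdX hx
  haveI := CurveFF.isDVR k Y hdY (CurveRamAC.isClosed_image X Y hdY f e hx)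
  haveI : X.IsSeparated := ⟨by rw [← terminal.comp_from (X ↘ Spec (CommRingCat.of k))]; infer_instance⟩
  refine eq_id_of_endo σ hfix ?_
  have hmax := CurveRamAC.map_maximalIdeal_eq f (x := x)
  rw [hram, pow_one] at hmax
  let φ := (endo σ hfix).hom
  let A := Y.presheaf.stalk (f x)
  let B := X.presheaf.stalk x
  let α : A →+* B := (f.stalkMap x).hom
  have hφα : ∀ a : A, φ (α a) = α a := fun a =>
    ConcreteCategory.congr_hom (endo_comp_stalkMap σ hfix f hσf) a
  have hα : ∀ c : k, α (algebraMap k A c) = algebraMap k B c := fun c => by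
    show f.stalkMap x (Y.presheaf.germ ⊤ (f x) trivial ((Y ↘ Spec (CommRingCat.of k)).appTop _)) =
      X.presheaf.germ ⊤ x trivial ((X ↘ Spec (CommRingCat.of k)).appTop _)
    erw [Scheme.Hom.germ_stalkMap_apply]
    rw [← hf]
    rfl
  obtain ⟨t, ht⟩ := IsDiscreteValuationRing.exists_irreducible A
  have hm : maximalIdeal B = Ideal.span {α t} := by
    rw [← hmax, ht.maximalIdeal_eq, Ideal.map_span, Set.image_singleton]
  have happrox : ∀ (n : ℕ) (b : B), ∃ (a : A) (c : B), b = α a + α t ^ n * c := by
    intro n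
    induction n with
    | zero => exact fun b => ⟨0, b, by rw [map_zero, pow_zero, one_mul, zero_add]⟩
    | succ n ih =>
      intro b
      obtain ⟨a, c, hb⟩ := ih b
      obtain ⟨l, hl⟩ := (CurveRamAC.stalk_facts (k := k) X hx).1 (residue B c)
      have hmem : c - algebraMap k B l ∈ maximalIdeal B := Ideal.Quotient.eq.1 hl.symm
      rw [hm, Ideal.mem_span_singleton'] at hmem
      obtain ⟨d, hd⟩ := hmem
      refine ⟨a + t ^ n * algebraMap k A l, d, ?_⟩
      rw [map_add, map_mul, map_pow, hα, hb]
      linear_combination (-(α t ^ n)) * hd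
  ext b
  show φ b = b
  rw [← sub_eq_zero, ← Ideal.mem_bot, ← Ideal.iInf_pow_eq_bot_of_isLocalRing (maximalIdeal B)
    (maximalIdeal.isMaximal B).ne_top, Ideal.mem_iInf]
  intro n
  obtain ⟨a, c, hb⟩ := happrox n b
  rw [hm, Ideal.span_singleton_pow, Ideal.mem_span_singleton']
  refine ⟨φ c - c, ?_⟩
  rw [hb, map_add, map_mul, map_pow, hφα, hφα]
  ring

include hσf in
theorem fixed_of_ram_ne_one (hdeg : f.residueDegree (genericPoint X) = 2) {x : X}
    (hx : IsClosed ({x} : Set X)) (hram : CurveRamAC.ram f x ≠ 1) (hσc : IsClosed ({σ x} : Set X)) :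
    σ x = x := by
  by_contra h
  have h1 := ram_add_le X hdX Y hdY f hf e (Ne.symm h)
    (show f x = f (σ x) by rw [← Scheme.Hom.comp_apply, hσf]) hx
  have h2 := one_le_ram X hdX Y hdY f hf e hx
  have h3 := one_le_ram X hdX Y hdY f hf e hσc
  omega

end Invol

omit hdX hdY hf in
/-- The degree of the function fields. -/
theorem finrank_functionField :
    letI := ((Y.presheaf.stalkSpecializes (specializes_of_eq e) ≫ f.stalkMap (genericPoint X)).hom).toAlgebra
    Module.finrank Y.functionField X.functionField = f.residueDegree (genericPoint X) := by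
  have hiso : IsIso (Y.presheaf.stalkSpecializes (specializes_of_eq e)) := by
    revert e
    generalize f (genericPoint X) = z
    rintro rfl
    rw [TopCat.Presheaf.stalkSpecializes_refl]
    infer_instance
  let τ : Y.functionField ≃+* Y.presheaf.stalk (f (genericPoint X)) :=
    (asIso (Y.presheaf.stalkSpecializes (specializes_of_eq e))).commRingCatIsoToRingEquiv
  letI := ((Y.presheaf.stalkSpecializes (specializes_of_eq e) ≫ f.stalkMap (genericPoint X)).hom).toAlgebra
  letI := (f.stalkMap (genericPoint X)).hom.toAlgebra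
  exact (Algebra.finrank_eq_of_equiv_equiv τ (RingEquiv.refl X.functionField) (RingHom.ext fun z => rfl)).trans
    (LinSys.finrank_stalk_eq_residueDegree f e)

omit hdX hdY hf in
theorem isSeparable_of_two (h2 : (2 : k) ≠ 0) (hdeg : f.residueDegree (genericPoint X) = 2) :
    letI := ((Y.presheaf.stalkSpecializes (specializes_of_eq e) ≫ f.stalkMap (genericPoint X)).hom).toAlgebra
    Algebra.IsSeparable Y.functionField X.functionField := by
  letI := ((Y.presheaf.stalkSpecializes (specializes_of_eq e) ≫ f.stalkMap (genericPoint X)).hom).toAlgebra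
  haveI := CurveGenusMono.finiteDimensional_functionField f e
  have hK : (2 : Y.functionField) ≠ 0 := fun h => h2 <|
    (CurveLuroth.ffC (Y ↘ Spec (CommRingCat.of k))).hom.injective (by rw [map_ofNat, map_zero]; exact h)
  refine ⟨fun a => ?_⟩
  have hi : IsIntegral Y.functionField a := Algebra.IsIntegral.isIntegral a
  show (minpoly Y.functionField a).Separable
  rw [Polynomial.separable_iff_derivative_ne_zero (minpoly.irreducible hi)]
  intro h0
  have hd : (minpoly Y.functionField a).natDegree ≤ 2 := by
    rw [← hdeg, ← finrank_functionField X Y f e]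
    exact minpoly.natDegree_le a
  have hpos := minpoly.natDegree_pos hi
  have hc := congrArg (fun q => Polynomial.coeff q ((minpoly Y.functionField a).natDegree - 1)) h0
  simp only [Polynomial.coeff_derivative, Polynomial.coeff_zero] at hc
  rw [Nat.sub_add_cancel hpos, (minpoly.monic hi).coeff_natDegree, one_mul] at hc
  obtain h1 | h1 : (minpoly Y.functionField a).natDegree = 1 ∨ (minpoly Y.functionField a).natDegree = 2 := by
    omega
  · rw [h1] at hc; norm_num at hc
  · rw [h1] at hc; norm_num at hc; exact hK hc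

/-- A degree two map is etale on a nonempty open. -/
theorem exists_etale_open (h2 : (2 : k) ≠ 0) (hdeg : f.residueDegree (genericPoint X) = 2) :
    ∃ V : X.Opens, (V : Set X).Nonempty ∧ Etale (V.ι ≫ f) := by
  haveI : Flat f := CurveRamAC.flat X hdX Y hdY f hf e
  haveI := CurveCohLib.isNoetherian_of_proper (k := k) (X := Y)
  haveI : LocallyOfFinitePresentation f := inferInstance
  refine ⟨f.smoothLocus, ⟨genericPoint X, ?_⟩, ?_⟩
  · show (f.stalkMap (genericPoint X)).hom.FormallySmooth
    have hiso : IsIso (Y.presheaf.stalkSpecializes (specializes_of_eq e)) := by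
      revert e
      generalize f (genericPoint X) = z
      rintro rfl
      rw [TopCat.Presheaf.stalkSpecializes_refl]
      infer_instance
    have hsep := isSeparable_of_two X Y f e h2 hdeg
    have hfs : ((Y.presheaf.stalkSpecializes (specializes_of_eq e) ≫ f.stalkMap (genericPoint X)).hom).FormallySmooth := by
      letI := ((Y.presheaf.stalkSpecializes (specializes_of_eq e) ≫ f.stalkMap (genericPoint X)).hom).toAlgebra
      haveI : Algebra.IsSeparable Y.functionField X.functionField := hsep
      haveI := CurveGenusMono.finiteDimensional_functionField f e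
      haveI : Algebra.FormallyEtale Y.functionField X.functionField := Algebra.FormallyEtale.of_isSeparable _ _
      exact (inferInstance : Algebra.FormallySmooth Y.functionField X.functionField)
    exact (RingHom.FormallySmooth.respectsIso.cancel_left_isIso
      (Y.presheaf.stalkSpecializes (specializes_of_eq e)) (f.stalkMap (genericPoint X))).1 hfs
  · let g := f.smoothLocus.ι ≫ f
    haveI : Smooth g := by
      rw [← Scheme.Hom.smoothLocus_eq_top_iff, ← Scheme.Hom.preimage_smoothLocus_eq]
      exact top_le_iff.1 fun z _ => z.2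
    exact UnramMisc.etale_of_smooth_of_locallyQuasiFinite g

theorem finite_ram (h2 : (2 : k) ≠ 0) (hdeg : f.residueDegree (genericPoint X) = 2) :
    {x : X | IsClosed ({x} : Set X) ∧ CurveRamAC.ram f x ≠ 1}.Finite := by
  haveI := CurveCohLib.isNoetherian_of_proper (k := k) (X := X)
  haveI := CurveCohLib.isNoetherian_of_proper (k := k) (X := Y)
  haveI : Flat f := CurveRamAC.flat X hdX Y hdY f hf e
  have hΩ : Coh.IsCoh (Omega.sheaf f) := ⟨OmegaUniv.isQCoh_omega f, OmegaUniv.isFT_omega f⟩
  have hη : genericPoint X ∉ CohB1.support (Omega.sheaf f) := fun h => by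
    refine h ?_
    have hsep := isSeparable_of_two X Y f e h2 hdeg
    letI := ((Y.presheaf.stalkSpecializes (specializes_of_eq e) ≫ f.stalkMap (genericPoint X)).hom).toAlgebra
    haveI : Algebra.IsSeparable Y.functionField X.functionField := hsep
    have hu : ((Y.presheaf.stalkSpecializes (specializes_of_eq e) ≫ f.stalkMap (genericPoint X)).hom).FormallyUnramified :=
      (Algebra.FormallyUnramified.of_isSeparable _ _ : Algebra.FormallyUnramified Y.functionField X.functionField)
    rw [CommRingCat.hom_comp] at hu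
    haveI := Synt29.OmegaStalk.isIso_toStalk (OmegaUniv.isUniversal_dOmega f) (genericPoint X)
    letI := (f.stalkMap (genericPoint X)).hom.toAlgebra
    haveI : Algebra.FormallyUnramified (Y.presheaf.stalk (f (genericPoint X))) (X.presheaf.stalk (genericPoint X)) :=
      RingHom.FormallyUnramified.of_comp hu
    haveI : Subsingleton (CommRingCat.KaehlerDifferential (f.stalkMap (genericPoint X))) :=
      Algebra.FormallyUnramified.subsingleton_kaehlerDifferential
    exact (asIso (Synt29.OmegaStalk.toStalk (OmegaSh.dOmega f) (genericPoint X))).toLinearEquiv.symm.toEquiv.subsingleton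
  have hc : ∀ x ∈ CohB1.support (Omega.sheaf f), IsClosed ({x} : Set X) := fun x hx => by
    by_contra h
    exact hη (CurveCohLib.eq_genericPoint_of_not_isClosed hdX h ▸ hx)
  refine (CurveCohLib.finite_of_closedPoints (QCoh.isClosed_support_of_isFT hΩ.1 hΩ.2) hc).subset ?_
  rintro x ⟨hx, hram⟩ hsub
  haveI : Smooth (X ↘ Spec (CommRingCat.of k)) := SmoothOfRelativeDimension.smooth 1 _
  haveI : Smooth (Y ↘ Spec (CommRingCat.of k)) := SmoothOfRelativeDimension.smooth 1 _
  haveI := CurveFF.isDVR k X hdX hx
  haveI := CurveFF.isDVR k Y hdY (CurveRamAC.isClosed_image X Y hdY f e hx)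
  have h1 := one_le_ram X hdX Y hdY f hf e hx
  have h3 := ram_le X hdX Y hdY f hf e hx
  have hcast : (CurveRamAC.ram f x : k) ≠ 0 := by
    rw [show CurveRamAC.ram f x = 2 by omega]
    exact_mod_cast h2
  have h := (CurveRamAC.finrank_stalk_omega f hf hx (CurveRamAC.isClosed_image X Y hdY f e hx) hcast).1
  haveI := hsub
  rw [Module.length_eq_zero] at h
  have h' : CurveRamAC.ram f x - 1 = 0 := by exact_mod_cast h.symm
  omega

/-- The fixed points of a non-trivial deck transformation, counted by Riemann–Hurwitz. -/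
theorem genus_eq_of_invol (h2 : (2 : k) ≠ 0) (hdeg : f.residueDegree (genericPoint X) = 2)
    (σ : X ⟶ X) (hσσ : σ ≫ σ = 𝟙 X) (hσf : σ ≫ f = f) (hσ : σ ≠ 𝟙 X) :
    {x : X | IsClosed ({x} : Set X) ∧ σ x = x}.Finite ∧
      2 * (Curv2.genus k X : ℤ) - 2 =
        2 * (2 * (Curv2.genus k Y : ℤ) - 2) + Nat.card {x : X // IsClosed ({x} : Set X) ∧ σ x = x} := by
  haveI : IsIso σ := ⟨σ, hσσ, hσσ⟩
  have hcl : ∀ x : X, IsClosed ({x} : Set X) → IsClosed ({σ x} : Set X) := fun x hx => by
    have := σ.homeomorph.isClosedMap _ hx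
    rwa [Set.image_singleton] at this
  have hset : {x : X | IsClosed ({x} : Set X) ∧ σ x = x} =
      {x : X | IsClosed ({x} : Set X) ∧ CurveRamAC.ram f x ≠ 1} := by
    ext x
    exact ⟨fun h => ⟨h.1, fun h1 => hσ (eq_id_of_fixed X hdX Y hdY f hf e σ hσf h.1 h.2 h1)⟩,
      fun h => ⟨h.1, fixed_of_ram_ne_one X hdX Y hdY f hf e σ hσf hdeg h.1 h.2 (hcl x h.1)⟩⟩
  have hfin := finite_ram X hdX Y hdY f hf e h2 hdeg
  have hram2 : ∀ x : X, IsClosed ({x} : Set X) → CurveRamAC.ram f x = 1 ∨ CurveRamAC.ram f x = 2 :=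
    fun x hx => by
      have h1 := one_le_ram X hdX Y hdY f hf e hx
      have h3 := ram_le X hdX Y hdY f hf e hx
      omega
  have htame : ∀ x : X, IsClosed ({x} : Set X) → (CurveRamAC.ram f x : k) ≠ 0 := fun x hx => by
    rcases hram2 x hx with h | h <;> rw [h]
    · rw [Nat.cast_one]; exact one_ne_zero
    · exact_mod_cast h2
  refine ⟨hset ▸ hfin, ?_⟩
  rw [CurveRamAC.hurwitz X hdX Y hdY f hf e (isSeparable_of_two X Y f e h2 hdeg) htame hfin.toFinset
    (fun x hx => (hfin.mem_toFinset.1 hx).1) (fun x hx h => hfin.mem_toFinset.2 ⟨hx, h⟩), hdeg]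
  congr 1
  rw [show Nat.card {x : X // IsClosed ({x} : Set X) ∧ σ x = x} = hfin.toFinset.card by
    rw [← Set.ncard_eq_toFinset_card _ hfin, ← hset]; exact Nat.card_coe_set_eq _]
  rw [Finset.sum_congr rfl fun x hx => ?_, Finset.sum_const, nsmul_eq_mul, mul_one]
  obtain ⟨hx1, hx2⟩ := hfin.mem_toFinset.1 hx
  rw [(hram2 x hx1).resolve_left hx2]
  norm_num

end Groth.Agent.HypEll
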