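import Groth.Agent.FFLib.RR

/-!
A function field with two rational subfields of index two has genus at most one.
-/

set_option autoImplicit false
set_option linter.unusedSectionVars false

namespace Groth.Agent.HypEll

open FunFld IntermediateField WithZero Groth.Agent.FFLib

variable {k K : Type*} [Field k] [Field K] [Algebra k K]

theorem deg_natSmul (B : Divisor k K) (l : ℕ) : ((l : ℤ) • B).deg = l * B.deg := by
  induction l with
  | zero => simp
  | succ l ih => push_cast; rw [add_smul, one_smul, Divisor.deg_add, ih]; ring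

theorem genus_le_one (hK : IsFunctionField k K) {x y : K} (hx : Transcendental k x) (hy : Transcendental k y)
    (hdx : Module.finrank k⟮x⟯ K = 2) (hdy : Module.finrank k⟮y⟯ K = 2) (hxy : y ∉ k⟮x⟯) :
    genus k K ≤ 1 := by
  have hF : IsFF k K := hK.1
  have h1y : LinearIndependent k⟮x⟯ ![(1 : K), y] := by
    rw [LinearIndependent.pair_iff]
    intro a b hab
    rw [Algebra.smul_def, Algebra.smul_def, mul_one] at hab
    by_cases hb : b = 0
    · subst hb
      rw [map_zero, zero_mul, add_zero, map_eq_zero_iff _ (algebraMap k⟮x⟯ K).injective] at hab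
      exact ⟨hab, rfl⟩
    · refine absurd ?_ hxy
      have hb' : algebraMap k⟮x⟯ K b ≠ 0 := (map_ne_zero_iff _ (algebraMap k⟮x⟯ K).injective).2 hb
      have : y = ((-a / b : k⟮x⟯) : K) := by
        show y = algebraMap k⟮x⟯ K (-a / b)
        rw [map_div₀, map_neg, eq_div_iff hb']
        linear_combination hab
      rw [this]
      exact SetLike.coe_mem _
  let n : ℕ := 2 * genus k K + 1
  let D : Divisor k K := (n : ℤ) • poles x + poles y
  have hpow : LinearIndependent k fun j : Fin (n + 1) => (AdjoinSimple.gen k x) ^ (j : ℕ) := by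
    refine LinearIndependent.of_comp k⟮x⟯.val.toLinearMap ?_
    have := (linearIndependent_powers hx).comp (fun j : Fin (n + 1) => (j : ℕ)) Fin.val_injective
    simpa [Function.comp_def] using this
  have hind := linearIndependent_smul hpow h1y
  have hmem : ∀ p : Fin (n + 1) × Fin 2, (AdjoinSimple.gen k x) ^ (p.1 : ℕ) • ![(1 : K), y] p.2 ∈ L D := by
    intro p P
    rw [IntermediateField.smul_def, SubmonoidClass.coe_pow, AdjoinSimple.coe_gen, smul_eq_mul,
      map_mul, map_pow, Finsupp.add_apply, exp_add]
    refine mul_le_mul' ?_ ?_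
    · refine (pow_le_pow_left' (val_le_exp_poles hF x P) _).trans ?_
      rw [← exp_nsmul, exp_le_exp, Finsupp.smul_apply, smul_eq_mul, nsmul_eq_mul]
      exact mul_le_mul_of_nonneg_right (by have := p.1.2; push_cast; omega) (poles_nonneg x P)
    · obtain ⟨a, i⟩ := p
      fin_cases i
      · show P.1 (1 : K) ≤ _
        rw [map_one, ← exp_zero, exp_le_exp]
        exact poles_nonneg y P
      · exact val_le_exp_poles hF y P
  have := L_finite hF D
  have hw : LinearIndependent k fun p => (⟨_, hmem p⟩ : L D) :=
    LinearIndependent.of_comp (Submodule.subtype _) hind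
  have hle := hw.fintype_card_le_finrank
  simp only [Fintype.card_prod, Fintype.card_fin] at hle
  have hdeg : D.deg = 2 * (n : ℤ) + 2 := by
    rw [Divisor.deg_add, deg_natSmul, deg_poles hF hx, deg_poles hF hy, hdx, hdy]
    push_cast
    ring
  have hell := ell_of_deg_gt hK (D := D) (by rw [hdeg]; omega)
  rw [hdeg] at hell
  have hle' : ((n : ℤ) + 1) * 2 ≤ (ell D : ℤ) := by exact_mod_cast hle
  omega

end Groth.Agent.HypEll
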