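import Groth.Agent.HypEll.Quot
import Groth.Agent.HypEll.TwoSub
import Groth.Agent.CurveLuroth.Line
import Groth.Agent.CurveFF.Degree
import Groth.Agent.S10829
import Groth.Agent.ExtShX.PnSmooth
import Mathlib.FieldTheory.RatFunc.IntermediateField
import Mathlib.FieldTheory.RatFunc.AsPolynomial

/-!
The hyperelliptic involution is unique.
-/

set_option autoImplicit false
set_option linter.style.haveILetI false
set_option linter.unusedSectionVars false
set_option backward.isDefEq.respectTransparency false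
set_option backward.isDefEq.respectTransparency.types false
set_option maxHeartbeats 800000

universe u

open CategoryTheory CategoryTheory.Limits AlgebraicGeometry TopologicalSpace IntermediateField

noncomputable section

namespace Groth.Agent.HypEll

open Groth.Agent

attribute [local instance] CurveFF.ffAlg

variable {k : Type u} [Field k] [IsAlgClosed k] (X : Scheme.{u}) [X.Over (Spec (CommRingCat.of k))]
  [IsIntegral X] [IsProper (X ↘ Spec (CommRingCat.of k))] [Smooth (X ↘ Spec (CommRingCat.of k))]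
  (hdX : topologicalKrullDim X = 1)

include hdX

/-- The subfield cut out by a double cover of the line. -/
theorem exists_subfield (h : X ⟶ CohB1.ProjSpace 1 k) [IsFinite h] [Flat h]
    (hh : h ≫ CohB1.ProjSpace.toSpec 1 k = X ↘ Spec (CommRingCat.of k))
    (hr : ∀ y : ↥(CohB1.ProjSpace 1 k), h.finrank y = 2) :
    ∃ x : X.functionField, Transcendental k x ∧ Module.finrank k⟮x⟯ X.functionField = 2 ∧
      ∀ (σ : X ⟶ X), σ ≫ h = h → ∃ e : σ (genericPoint X) = genericPoint X,
        ∀ a ∈ k⟮x⟯, (endo σ e).hom a = a := by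
  classical
  let P := CohB1.ProjSpace 1 k
  letI : P.Over (Spec (CommRingCat.of k)) := ⟨CohB1.ProjSpace.toSpec 1 k⟩
  haveI : SmoothOfRelativeDimension 1 (P ↘ Spec (CommRingCat.of k)) := ExtShX.DetPn.smooth_toSpec 1 k
  haveI : SmoothOfRelativeDimension 1 (X ↘ Spec (CommRingCat.of k)) := smooth_one _ hdX
  haveI : IsProper (P ↘ Spec (CommRingCat.of k)) := PnCoh.Chow.isProper_toSpec 1 k
  haveI : IsIntegral P := H23.PnChart.isIntegral_projSpace 1 k
  haveI := CurveCohLib.isNoetherian_of_proper (k := k) (X := X)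
  have hdP : topologicalKrullDim P = 1 := by simpa using S10829.result k 1
  obtain ⟨x₀, hx₀⟩ : ∃ x, h x = genericPoint P := by
    by_contra hno
    obtain ⟨-, hs⟩ := H23.FiniteFibreSum.sum_finrank h (genericPoint P)
    rw [show h ⁻¹' {genericPoint P} = ∅ from Set.eq_empty_of_forall_notMem fun x hx => hno ⟨x, hx⟩,
      finsum_mem_empty, hr] at hs
    omega
  have hη : h (genericPoint X) = genericPoint P :=
    (((genericPoint_spec P).specializes (Set.mem_univ _)).antisymm
      (hx₀ ▸ ((genericPoint_spec X).specializes (Set.mem_univ x₀)).map h.continuous)).eq.symm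
  have hdeg : h.residueDegree (genericPoint X) = 2 :=
    (finrank_eq X hdX P hdP h hh hη (genericPoint P)).symm.trans (hr _)
  obtain ⟨θ, hθ⟩ := CurveLuroth.exists_iso_line_field k
  let u : P.functionField ⟶ X.functionField :=
    P.presheaf.stalkSpecializes (specializes_of_eq hη) ≫ h.stalkMap (genericPoint X)
  have hspecu : Spec.map u ≫ P.fromSpecStalk (genericPoint P) = X.fromSpecStalk (genericPoint X) ≫ h := by
    rw [Spec.map_comp, Category.assoc, Scheme.SpecMap_stalkSpecializes_fromSpecStalk,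
      Scheme.SpecMap_stalkMap_fromSpecStalk]
  have huk : CurveLuroth.ffC (P ↘ Spec (CommRingCat.of k)) ≫ u = CurveLuroth.ffC (X ↘ Spec (CommRingCat.of k)) := by
    refine Spec.map_injective ?_
    rw [Spec.map_comp, CurveLuroth.spec_ffC, ← Category.assoc, hspecu, CurveLuroth.spec_ffC, Category.assoc]
    exact congrArg _ hh
  have hcomm : ∀ c : k, (θ.inv ≫ u).hom (algebraMap k (RatFunc k) c) = algebraMap k X.functionField c := fun c => by
    have h1 : θ.inv (algebraMap k (RatFunc k) c) = CurveLuroth.ffC (P ↘ Spec (CommRingCat.of k)) c := by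
      have h0 := ConcreteCategory.congr_hom hθ c
      show θ.inv (CurveLuroth.ratC k c) = _
      rw [← h0]
      exact congr($(θ.hom_inv_id) (CurveLuroth.ffC (CohB1.ProjSpace.toSpec 1 k) c))
    show u (θ.inv (algebraMap k (RatFunc k) c)) = _
    rw [h1]
    have h2 := ConcreteCategory.congr_hom huk c
    rw [ffC_eq X] at h2
    exact h2
  let w : RatFunc k →ₐ[k] (X.functionField : Type u) := { (θ.inv ≫ u).hom with commutes' := hcomm }
  let x : X.functionField := w RatFunc.X
  have hrange : w.fieldRange = k⟮x⟯ := by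
    rw [AlgHom.fieldRange_eq_map, ← RatFunc.adjoin_X, IntermediateField.adjoin_map, Set.image_singleton]
  let τ : P.functionField ≃+* w.fieldRange :=
    (θ.commRingCatIsoToRingEquiv).trans (AlgEquiv.ofInjectiveField w).toRingEquiv
  have hτ : ∀ a, ((τ a : w.fieldRange) : X.functionField) = u a := fun a => by
    show u (θ.inv (θ.hom a)) = u a
    exact congrArg u (congr($(θ.hom_inv_id) a))
  refine ⟨x, ?_, ?_, fun σ hσ => ?_⟩
  · exact fun hx => RatFunc.transcendental_X ((isAlgebraic_algHom_iff w w.injective).1 hx)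
  · rw [← hrange, ← hdeg, ← finrank_functionField X P h hη]
    letI := u.hom.toAlgebra
    exact (Algebra.finrank_eq_of_equiv_equiv τ (RingEquiv.refl X.functionField)
      (RingHom.ext fun a => hτ a)).symm
  · have e : σ (genericPoint X) = genericPoint X := by
      by_contra hne
      have hc : IsClosed ({σ (genericPoint X)} : Set X) := by
        by_contra hc
        exact hne (CurveCohLib.eq_genericPoint_of_not_isClosed hdX hc)
      have := CurveRamAC.isClosed_image X P hdP h hη hc
      rw [← Scheme.Hom.comp_apply, hσ, hη] at this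
      exact CurveRamAC.not_isClosed_generic P hdP this
    refine ⟨e, fun a ha => ?_⟩
    rw [← hrange] at ha
    obtain ⟨b, rfl⟩ := ha
    have hu : u ≫ endo σ e = u := by
      show (_ ≫ h.stalkMap (genericPoint X)) ≫ endo σ e = _
      rw [Category.assoc, endo_comp_stalkMap σ e h hσ]
    exact ConcreteCategory.congr_hom hu (θ.inv b)

/-- Two non-trivial deck maps of double covers of the line agree. -/
theorem invol_unique (hg : 2 ≤ Curv2.genus k X)
    (h₁ h₂ : X ⟶ CohB1.ProjSpace 1 k) [IsFinite h₁] [Flat h₁] [IsFinite h₂] [Flat h₂]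
    (hh₁ : h₁ ≫ CohB1.ProjSpace.toSpec 1 k = X ↘ Spec (CommRingCat.of k))
    (hh₂ : h₂ ≫ CohB1.ProjSpace.toSpec 1 k = X ↘ Spec (CommRingCat.of k))
    (hr₁ : ∀ y : ↥(CohB1.ProjSpace 1 k), h₁.finrank y = 2) (hr₂ : ∀ y : ↥(CohB1.ProjSpace 1 k), h₂.finrank y = 2)
    (σ τ : X ⟶ X) (hσ : σ ≫ h₁ = h₁) (hσ₁ : σ ≠ 𝟙 X) (hτ : τ ≫ h₂ = h₂) (hτ₁ : τ ≠ 𝟙 X) : σ = τ := by
  classical
  haveI : X.IsSeparated := ⟨by rw [← terminal.comp_from (X ↘ Spec (CommRingCat.of k))]; infer_instance⟩
  obtain ⟨x, hx, hdx, hxσ⟩ := exists_subfield X hdX h₁ hh₁ hr₁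
  obtain ⟨y, hy, hdy, hyτ⟩ := exists_subfield X hdX h₂ hh₂ hr₂
  have hK := CurveFF.isFunctionField k X hdX
  have hG : 2 ≤ FunFld.genus k X.functionField := by rwa [CurveFF.genus_eq k hdX]
  have hxy : k⟮x⟯ = k⟮y⟯ := by
    refine le_antisymm (adjoin_simple_le_iff.2 ?_) (adjoin_simple_le_iff.2 ?_) <;> by_contra hne
    · have := genus_le_one hK hy hx hdy hdx hne; omega
    · have := genus_le_one hK hx hy hdx hdy hne; omega
  obtain ⟨eσ, hfixσ⟩ := hxσ σ hσ
  obtain ⟨eτ, hfixτ⟩ := hyτ τ hτ
  rw [← hxy] at hfixτ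
  haveI : Module.Finite k⟮x⟯ X.functionField := Module.finite_of_finrank_pos (by omega)
  let mk : ∀ (s : X ⟶ X) (e : s (genericPoint X) = genericPoint X), (∀ a ∈ k⟮x⟯, (endo s e).hom a = a) →
      (X.functionField →ₐ[k⟮x⟯] X.functionField) := fun s e hfix =>
    { (endo s e).hom with commutes' := fun a => hfix a.1 a.2 }
  have hid : ∀ (s : X ⟶ X) (e : s (genericPoint X) = genericPoint X) (hfix : ∀ a ∈ k⟮x⟯, (endo s e).hom a = a),
      mk s e hfix = AlgHom.id _ _ → s = 𝟙 X := fun s e hfix h =>
    eq_id_of_endo s e (CommRingCat.hom_ext (RingHom.ext fun a => DFunLike.congr_fun h a))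
  by_contra hne
  have h3 : ({AlgHom.id _ _, mk σ eσ hfixσ, mk τ eτ hfixτ} : Finset (X.functionField →ₐ[k⟮x⟯] X.functionField)).card = 3 := by
    refine Finset.card_eq_three.2 ⟨_, _, _, fun h => hσ₁ (hid σ eσ hfixσ h.symm),
      fun h => hτ₁ (hid τ eτ hfixτ h.symm), fun h => hne ?_, rfl⟩
    haveI : IsDominant (X.fromSpecStalk (genericPoint X)) := by
      refine ⟨fun z => (genericPoint_specializes z).mem_closed isClosed_closure (subset_closure ?_)⟩
      rw [Scheme.range_fromSpecStalk]
      exact specializes_rfl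
    refine ext_of_isDominant (X.fromSpecStalk (genericPoint X)) ?_
    rw [← spec_endo σ eσ, ← spec_endo τ eτ,
      show endo σ eσ = endo τ eτ from CommRingCat.hom_ext (RingHom.ext fun a => DFunLike.congr_fun h a)]
  have hcard := (Finset.card_le_univ
    ({AlgHom.id _ _, mk σ eσ hfixσ, mk τ eτ hfixτ} : Finset (X.functionField →ₐ[k⟮x⟯] X.functionField))).trans (AlgHom.card_le (F := k⟮x⟯) (K := X.functionField))
  rw [h3, hdx] at hcard
  omega

end Groth.Agent.HypEll
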